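import Cfsg.Agent.Lib.HeldTri.Entry.Check
import Cfsg.Agent.Lib.HeldTri.Generated.Odd
import Cfsg.Agent.Lib.HeType.Model.SLFive
import Cfsg.Agent.Lib.HeType.Model.Transport
import Cfsg.Agent.Lib.HeType.Fusion.Coords
import Cfsg.Agent.Lib.Cores.Basic
import Cfsg.Prelude.Def_CaseTheorems

/-!
From the hypotheses of the statements to coordinates and a fused class of the extraspecial subgroup.
-/

set_option autoImplicit false
set_option linter.unusedSectionVars false
set_option maxRecDepth 100000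

namespace CfsgLib.HeldTri

open CfsgLib.HeType CfsgLib.HeType.Cert Gen Subgroup

variable {G : Type*} [Group G] {t : G} {Q : Subgroup G} {x y r : G} {a b : ℕ → G}

/-- A central involution of the centraliser is `t`. -/
theorem central_eq [Finite G] (C : Coords t Q R0 true x y r a b) {z : G} (hzt : z * t = t * z) (hz2 : z * z = 1)
    (hz1 : z ≠ 1) (hcen : ∀ g, g * t = t * g → z * g = g * z) : z = t := by
  obtain ⟨c, hc, rfl⟩ := exists_code C hzt
  obtain ⟨k, g, hm⟩ := exists_entry C hc hz2 hz1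
  have h := List.all_eq_true.1 q_central_check _ hm
  simp only [Bool.or_eq_true, beq_iff_eq, List.any_eq_true, Bool.not_eq_true'] at h
  rcases h with rfl | ⟨q, hq, hq'⟩
  · exact E_top C
  · have hq2 : q < 21504 := by simp only [List.mem_cons, List.not_mem_nil, or_false] at hq; omega
    rw [(com_iff C hc hq2).2 (hcen _ (E_comm_t C q))] at hq'
    exact absurd hq' (by simp)

/-- Coordinates from an isomorphism with the centraliser of a transvection. -/
theorem exists_coords_of_iso (s : Matrix.SpecialLinearGroup (Fin 5) (ZMod 2))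
    (hs : (s : Matrix (Fin 5) (Fin 5) (ZMod 2)) = Matrix.transvection 0 1 1) {j : G} (hj : orderOf j = 2)
    (e : centralizer ({j} : Set G) ≃* centralizer ({s} : Set (Matrix.SpecialLinearGroup (Fin 5) (ZMod 2)))) :
    ∃ (Q : Subgroup G) (x y r : G) (a b : ℕ → G), Coords j Q R0 true x y r a b := by
  obtain rfl : s = SLFive.tS := Subtype.ext (hs.trans SLFive.tS_transvection.symm)
  let J : ↥(centralizer ({j} : Set G)) := ⟨j, mem_centralizer_singleton_iff.2 rfl⟩
  have hJ : orderOf J = 2 := by rw [← hj]; exact (Subgroup.orderOf_coe J).symm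
  have hz : ((e J : _) : Matrix.SpecialLinearGroup (Fin 5) (ZMod 2)) = SLFive.tS := by
    refine central_eq SLFive.coords (mem_centralizer_singleton_iff.1 (e J).2) ?_ ?_ ?_
    · rw [← Subgroup.coe_mul, ← map_mul, show J * J = 1 by rw [← pow_two, ← hJ, pow_orderOf_eq_one], map_one]
      rfl
    · intro h
      have h' : J = 1 := e.injective (by rw [map_one]; exact Subtype.ext h)
      rw [h', orderOf_one] at hJ
      omega
    · intro g hg
      obtain ⟨u, hu⟩ := e.surjective ⟨g, mem_centralizer_singleton_iff.2 hg⟩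
      have hcomm : J * u = u * J := Subtype.ext (mem_centralizer_singleton_iff.1 u.2).symm
      have := congrArg Subtype.val (congrArg e hcomm)
      rw [map_mul, map_mul, hu] at this
      exact this
  refine Coords.map SLFive.coords e.symm ?_
  have : (⟨SLFive.tS, mem_centralizer_singleton_iff.2 rfl⟩ :
      ↥(centralizer ({SLFive.tS} : Set (Matrix.SpecialLinearGroup (Fin 5) (ZMod 2))))) = e J := Subtype.ext hz.symm
  rw [this, e.symm_apply_apply]

section

variable [Finite G] (C : Coords t Q R0 true x y r a b)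
include C

theorem E_qEl {v : ℕ} (hv : v < 128) : cEl t a b x y r v = qEl t a b v := C.cEl_low hv

theorem mem_Q_iff {c : ℕ} (hc : c < 21504) : cEl t a b x y r c ∈ Q ↔ c < 128 := by
  constructor
  · intro h
    obtain ⟨v, hv, e⟩ := (C.hQ _).1 h
    rw [← E_qEl C hv] at e
    exact (C.cEl_inj (by omega) hc e).symm ▸ hv
  · intro h
    exact (C.hQ _).2 ⟨c, h, (E_qEl C h).symm⟩

theorem E_pow {d : ℕ} (hd : d < 21504) : ∀ n, cEl t a b x y r d ^ n = cEl t a b x y r (fPow d n) ∧ fPow d n < 21504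
  | 0 => ⟨by rw [pow_zero, fPow, C.cEl_one], by norm_num [fPow]⟩
  | n + 1 => by
    obtain ⟨h1, h2⟩ := E_pow hd n
    exact ⟨by rw [pow_succ, h1, fPow, (E_mul C h2 hd).1], (E_mul C h2 hd).2⟩

theorem Q_le_pCore_and : ∀ g : ↥(centralizer ({t} : Set G)), g ∈ Cfsg.pCore 2 ↥(centralizer ({t} : Set G)) →
    (g : G) ∈ Q := by
  haveI := Fact.mk Nat.prime_two
  set K := centralizer ({t} : Set G) with hK
  set P := Cfsg.pCore 2 ↥K with hP
  have hP2 : IsPGroup 2 ↥P := CfsgLib.Cores.isPGroup_pCore 2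
  have hQ2 : IsPGroup 2 ↥(Q.subgroupOf K) :=
    (IsPGroup.of_card (n := 7) (by rw [C.cardQ]; norm_num) : IsPGroup 2 ↥Q).comap_subtype
  haveI hPn : P.Normal := Cfsg.pCore_normal 2 _
  set M := Q.subgroupOf K ⊔ P with hM
  have hM2 : IsPGroup 2 ↥M := hQ2.to_sup_of_normal_right hP2
  intro g hg
  obtain ⟨c, hc, he⟩ := C.cEl_surj g.2
  rw [← he, mem_Q_iff C hc]
  by_contra hlow
  set l := c / 128 with hl
  have hl1 : 1 ≤ l ∧ l < 168 := by omega
  obtain ⟨⟨l', m, e, k⟩, hmem, hl'⟩ := List.any_eq_true.1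
    (List.all_eq_true.1 core_check.2 l (List.mem_range'_1.2 (by omega)))
  obtain rfl : l' = l := eq_of_beq hl'
  have h := List.all_eq_true.1 core_check.1 _ hmem
  simp only [coreOk, Bool.and_eq_true, Nat.blt_eq, beq_iff_eq, Bool.not_eq_true', Bool.or_eq_true] at h
  obtain ⟨⟨⟨⟨⟨⟨hm, he'⟩, -⟩, hge⟩, hd⟩, hk⟩, hk37⟩ := h
  have hd' : ¬ fMul (128 * l) e < 128 := by
    intro hlt
    rw [← Nat.blt_eq, hd] at hlt
    simp at hlt
  have hL : 128 * l < 21504 := by omega
  have hMm : 128 * m < 21504 := by omega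
  -- the lift of the class lies in the subgroup
  have hmul : cEl t a b x y r c = cEl t a b x y r (c % 128) * cEl t a b x y r (128 * l) := by
    rw [E_qEl C (Nat.mod_lt _ (by norm_num))]
    simp only [cEl, Nat.mul_mod_right, Nat.mul_div_cancel_left _ (show 0 < 128 by norm_num), C.frame.el_zero, one_mul,
      hl]
  let f : ℕ → ↥K := fun n => ⟨cEl t a b x y r n, C.cEl_mem⟩
  have hfl : f (128 * l) ∈ M := by
    have e1 : f (128 * l) = (f (c % 128))⁻¹ * g := by
      rw [eq_inv_mul_iff_mul_eq]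
      exact Subtype.ext (by rw [Subgroup.coe_mul, ← he]; exact hmul.symm)
    rw [e1]
    refine M.mul_mem (M.inv_mem (mem_sup_left (mem_subgroupOf.2 ?_))) (mem_sup_right hg)
    exact (mem_Q_iff C (by omega)).2 (Nat.mod_lt _ (by norm_num))
  haveI : (Q.subgroupOf K).Normal := qNormal C
  have hfe : f e ∈ M := by
    have e1 : f e = f (128 * m) * f (128 * l) * (f (128 * m))⁻¹ := by
      rw [eq_mul_inv_iff_mul_eq]
      refine Subtype.ext ?_
      simp only [Subgroup.coe_mul, f]
      rw [(E_mul C he' hMm).1, (E_mul C hMm hL).1, hge]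
    rw [e1]
    exact (inferInstance : M.Normal).conj_mem _ hfl _
  set d := fMul (128 * l) e with hdd
  have hd21 : d < 21504 := (E_mul C hL he').2
  have hfd : f d ∈ M := by
    have : f d = f (128 * l) * f e := Subtype.ext (by rw [Subgroup.coe_mul]; exact ((E_mul C hL he').1).symm)
    rw [this]
    exact M.mul_mem hfl hfe
  obtain ⟨i, hi⟩ := hM2 ⟨f d, hfd⟩
  have hi' : cEl t a b x y r d ^ 2 ^ i = 1 := congrArg (fun v : ↥M => ((v : ↥K) : G)) hi
  have hkQ : cEl t a b x y r d ^ k ∈ Q := by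
    obtain ⟨h1, h2⟩ := E_pow C hd21 k
    rw [h1]
    exact (mem_Q_iff C h2).2 hk
  have hcop : Nat.Coprime k (2 ^ i) := Nat.Coprime.pow_right i (by rcases hk37 with rfl | rfl <;> norm_num)
  refine hd' ((mem_Q_iff C hd21).1 ?_)
  have hgcd := Nat.gcd_eq_gcd_ab k (2 ^ i)
  rw [hcop.gcd_eq_one] at hgcd
  have e2 : cEl t a b x y r d = (cEl t a b x y r d ^ k) ^ Nat.gcdA k (2 ^ i) := by
    conv_lhs => rw [← zpow_one (cEl t a b x y r d), show (1 : ℤ) = ((1 : ℕ) : ℤ) from rfl, hgcd]
    rw [zpow_add, zpow_mul, zpow_mul, zpow_natCast, zpow_natCast, hi', one_zpow, mul_one]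
  rw [e2]
  exact Q.zpow_mem hkQ _

/-- A conjugate of `t` in the largest normal 2-subgroup fuses one of the two classes. -/
theorem fused_of_core {g : G} (hq : g * t * g⁻¹ ∈ centralizer ({t} : Set G))
    (hcore : (⟨g * t * g⁻¹, hq⟩ : ↥(centralizer ({t} : Set G))) ∈ Cfsg.pCore 2 ↥(centralizer ({t} : Set G)))
    (hne : g * t * g⁻¹ ≠ t) : IsConj t (a 0) ∨ IsConj t (b 0) := by
  have hQ := Q_le_pCore_and C _ hcore
  obtain ⟨c, hc, he⟩ := C.cEl_surj hq
  replace hQ : g * t * g⁻¹ ∈ Q := hQ
  rw [← he] at hQ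
  have hc128 := (mem_Q_iff C hc).1 hQ
  have htt : t * t = 1 := C.frame.tt
  obtain ⟨k, g', hm⟩ := exists_entry C hc
    (by rw [he, show g * t * g⁻¹ * (g * t * g⁻¹) = g * (t * t) * g⁻¹ by group, htt]; group)
    (by rw [he, ne_eq, conj_eq_one_iff]; exact C.frame.t_ne)
  have hk4 : k < 4 := by
    have h := List.all_eq_true.1 low_check.1 _ hm
    simp only [Bool.or_eq_true, Bool.not_eq_true', Nat.blt_eq] at h
    rcases h with h | h
    · rw [← Nat.blt_eq] at hc128; rw [hc128] at h; simp at h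
    · exact h
  obtain ⟨-, -, hk8, -, hrep, -⟩ := entry_spec C hm
  have hconj : IsConj t (cEl t a b x y r (reps.getD k 0)) :=
    ((isConj_iff.2 ⟨g, rfl⟩ : IsConj t (g * t * g⁻¹)).trans (he ▸ (hrep ▸ (isConj_iff.2 ⟨_, rfl⟩ :
      IsConj (cEl t a b x y r (reps.getD k 0)) _)).symm))
  interval_cases k
  · left
    rwa [show reps.getD 0 0 = 1 from rfl, E_qEl C (by norm_num),
      show qEl t a b 1 = a 0 from C.frame.el_a (show 0 < 3 by norm_num)] at hconj
  · right
    rwa [show reps.getD 1 0 = 8 from rfl, E_qEl C (by norm_num),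
      show qEl t a b 8 = b 0 from C.frame.el_b (show 0 < 3 by norm_num)] at hconj
  · exact absurd hconj (by simpa [reps] using not_fused_42 C)
  · have h := List.all_eq_true.1 low_check.2 _ hm
    simp only [beq_self_eq_true, Bool.not_true, Bool.false_or, beq_iff_eq] at h
    subst h
    exact absurd (he.symm.trans (E_top C)) hne

/-- In a simple group the centraliser is proper. -/
theorem cent_ne_top [IsSimpleGroup G] : centralizer ({t} : Set G) ≠ ⊤ := by
  intro h
  have hcard : Nat.card G = 21504 := by rw [← C.cardC, h, card_top]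
  have hcen : center G = ⊤ := by
    refine ((inferInstance : (center G).Normal).eq_bot_or_eq_top).resolve_left fun hb => C.frame.t_ne ?_
    rw [← mem_bot, ← hb, mem_center_iff]
    exact fun g => mem_centralizer_singleton_iff.1 (h ▸ mem_top g)
  haveI : (Q).Normal := ⟨fun u hu g => by
    rwa [mem_center_iff.1 (hcen ▸ mem_top u) g, mul_inv_cancel_right]⟩
  rcases (inferInstance : Q.Normal).eq_bot_or_eq_top with hb | hb
  · have := C.cardQ; rw [hb, card_bot] at this; omega
  · have := C.cardQ; rw [hb, card_top, hcard] at this; omega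

end

end CfsgLib.HeldTri
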