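import Cfsg.Agent.Lib.HeldTri.Generated.Codes.Defs
import Cfsg.Agent.Lib.HeldTri.Generated.Codes.CoreTable

/-!
Kernel checks for the entry from the hypotheses of the statements.
-/

set_option autoImplicit false
set_option maxRecDepth 100000
set_option Elab.async false

namespace CfsgLib.HeldTri.Gen

open CfsgLib.HeType.Cert

/-- The power of a code. -/
def fPow (d : ℕ) : ℕ → ℕ
  | 0 => 0
  | n + 1 => fMul (fPow d n) d

/-- An entry of the table for the largest normal 2-subgroup is correct. -/
def coreOk : ℕ × ℕ × ℕ × ℕ → Bool
  | (l, m, e, k) => Nat.blt m 168 && Nat.blt e 21504 && Nat.blt l 168 && (fMul (128 * m) (128 * l) == fMul e (128 * m)) &&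
      !(Nat.blt (fMul (128 * l) e) 128) && Nat.blt (fPow (fMul (128 * l) e) k) 128 && (k == 3 || k == 7)

theorem core_check : (coreTab.all coreOk) = true ∧
    ((List.range' 1 167).all fun l => coreTab.any fun e => e.1 == l) = true := by decide +kernel

theorem low_check : (invTab.all fun e => !(Nat.blt e.1 128) || Nat.blt e.2.1 4) = true ∧
    (invTab.all fun e => !(e.2.1 == 3) || e.1 == 64) = true := by decide +kernel

end CfsgLib.HeldTri.Gen
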